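import Cfsg.Agent.H697.EP.PsuWeil
import Cfsg.Agent.CharactersDeep.AbelianQuotient
import Cfsg.Agent.H892.EP.Basic
import Cfsg.Agent.H316.HT.Defs

/-!
# S4933, box 2.U3.wr: the character of degree `q (q - 1)` of `PSU_3(q)`, `q` odd, and the principal 2-block (helper872)

* `mem_of_add_one` : `R = ψ + 1` on the `p`-regular elements ⇒ `ψ` is in the principal block;
* `irr_ker` : the Weil characters of the unitary group are irreducible on the special unitary group;
* `exists_psi` : the character of `PSU 3 F q` with its values, in the principal 2-block;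
* `rowIn_psu3` : `RowIn 2 (PSU 3 F q)` for `q = 3 mod 4`.
-/

set_option autoImplicit false

open Cfsg Cfsg.Agent.Characters.Core
open scoped ComplexConjugate

namespace Cfsg.Agent.H872.HT

universe u v

section Block

variable {G : Type u} [Group G] [Finite G] {p : ℕ} [Fact p.Prime] {M : Ideal AlgInt}

theorem one_mem_reg : (1 : G) ∈ (Set.toFinite {x : G | ¬ p ∣ orderOf x}).toFinset := by
  rw [Set.Finite.mem_toFinset]
  show ¬ p ∣ orderOf (1 : G)
  rw [orderOf_one]
  exact (Fact.out : p.Prime).one_lt.ne' ∘ Nat.dvd_one.1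

/-- If `R = ψ + 1` on the `p`-regular elements then `ψ` is in the principal block. -/
theorem mem_of_add_one (hM : IsPModular p M) (ψ R : IrrCharacter G)
    (h : ∀ x : G, ¬ p ∣ orderOf x → (R : G → ℂ) x = (ψ : G → ℂ) x + 1) : ψ ∈ principalBlock M G := by
  classical
  by_contra hcon
  have hreg : ∀ y ∈ (Set.toFinite {x : G | ¬ p ∣ orderOf x}).toFinset, (R : G → ℂ) y = (ψ : G → ℂ) y + 1 := by
    intro y hy
    rw [Set.Finite.mem_toFinset] at hy
    exact h y hy
  have h1 := Blocks.Orthogonality.orthogonal_on_p_regular hM (principalBlock M G) (H892.EP.coeff_ring hM)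
    (H892.EP.oneChar G) ψ (H892.EP.one_mem_block hM) hcon
  rw [finsum_mem_eq_finite_toFinset_sum _ (Set.toFinite _)] at h1
  have h1' : ∑ x ∈ (Set.toFinite {x : G | ¬ p ∣ orderOf x}).toFinset, conj ((ψ : G → ℂ) x) = 0 := by
    rw [← h1]
    refine Finset.sum_congr rfl fun y _ => ?_
    have h5 : ((H892.EP.oneChar G : IrrCharacter G) : G → ℂ) y = 1 := rfl
    rw [h5, one_mul]
  have hR : R ∈ principalBlock M G := by
    by_contra hRn
    have h2 := Blocks.Orthogonality.orthogonal_on_p_regular hM (principalBlock M G) (H892.EP.coeff_ring hM)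
      (H892.EP.oneChar G) R (H892.EP.one_mem_block hM) hRn
    rw [finsum_mem_eq_finite_toFinset_sum _ (Set.toFinite _)] at h2
    have h3 : ∑ x ∈ (Set.toFinite {x : G | ¬ p ∣ orderOf x}).toFinset, (conj ((ψ : G → ℂ) x) + 1) = 0 := by
      rw [← h2]
      refine Finset.sum_congr rfl fun y hy => ?_
      have h5 : ((H892.EP.oneChar G : IrrCharacter G) : G → ℂ) y = 1 := rfl
      rw [h5, one_mul, hreg y hy, map_add, map_one]
    rw [Finset.sum_add_distrib, h1', zero_add, Finset.sum_const, nsmul_eq_mul, mul_one, Nat.cast_eq_zero,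
      Finset.card_eq_zero] at h3
    have h4 := one_mem_reg (G := G) (p := p)
    rw [h3] at h4
    exact absurd h4 (Finset.notMem_empty _)
  have h2 := Blocks.Orthogonality.orthogonal_on_p_regular hM (principalBlock M G) (H892.EP.coeff_ring hM)
    R ψ hR hcon
  rw [finsum_mem_eq_finite_toFinset_sum _ (Set.toFinite _)] at h2
  have h3 : ∑ x ∈ (Set.toFinite {x : G | ¬ p ∣ orderOf x}).toFinset, Complex.normSq ((ψ : G → ℂ) x) = 0 := by
    have h4 : (∑ x ∈ (Set.toFinite {x : G | ¬ p ∣ orderOf x}).toFinset, Complex.normSq ((ψ : G → ℂ) x) : ℂ) = 0 := by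
      rw [← sub_self (0 : ℂ)]
      nth_rewrite 1 [← h2]
      rw [← h1', ← Finset.sum_sub_distrib]
      refine Finset.sum_congr rfl fun y hy => ?_
      rw [hreg y hy, Complex.normSq_eq_conj_mul_self]
      ring
    exact_mod_cast h4
  have h5 := (Finset.sum_eq_zero_iff_of_nonneg (fun x _ => Complex.normSq_nonneg _)).1 h3 1 one_mem_reg
  rw [Complex.normSq_eq_zero] at h5
  exact isIrr_apply_one_ne_zero ψ.2 h5

end Block

section Sign

/-- a character of order two of an abelian group of even order -/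
theorem exists_sign (A : Type u) [Group A] [Finite A] (hab : ∀ x y : A, x * y = y * x) (h2 : 2 ∣ Nat.card A) :
    ∃ ε : A →* ℂˣ, ε ^ 2 = 1 ∧ ε ≠ 1 := by
  classical
  obtain ⟨Λ, hΛ, hc, -, -⟩ := CharactersDeep.AbelianQuotient.exists_linear_dual (⊥ : Subgroup A) (by
    intro x y
    rw [Subgroup.mem_bot, hab x y, mul_inv_cancel_right, mul_inv_cancel])
  rw [Subgroup.index_bot] at hc
  have hall : ∀ l : A →* ℂˣ, l ∈ Λ := by
    intro l
    rw [hΛ]
    intro n hn
    rw [(Subgroup.mem_bot).1 hn, map_one]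
  let hf : Fintype (A →* ℂˣ) := ⟨Λ, hall⟩
  have hcard : Nat.card (A →* ℂˣ) = Nat.card A := by
    rw [← hc, Nat.card_eq_fintype_card]
    rfl
  have : Fact (Nat.Prime 2) := ⟨Nat.prime_two⟩
  obtain ⟨ε, hε⟩ := exists_prime_orderOf_dvd_card' (G := A →* ℂˣ) 2 (by rw [hcard]; exact h2)
  refine ⟨ε, by rw [← hε, pow_orderOf_eq_one], ?_⟩
  rintro rfl
  rw [orderOf_one] at hε
  norm_num at hε

theorem sum_inv_eq_zero {A : Type u} [Group A] [Fintype A] {ε : A →* ℂˣ} (hε : ε ≠ 1) :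
    ∑ a : A, (((ε a)⁻¹ : ℂˣ) : ℂ) = 0 := by
  classical
  obtain ⟨b, hb⟩ : ∃ b, ε b ≠ 1 := by
    by_contra hcon
    push Not at hcon
    exact hε (MonoidHom.ext hcon)
  have h1 : ∑ a : A, (((ε a)⁻¹ : ℂˣ) : ℂ) = (((ε b)⁻¹ : ℂˣ) : ℂ) * ∑ a : A, (((ε a)⁻¹ : ℂˣ) : ℂ) := by
    conv_lhs => rw [← Equiv.sum_comp (Equiv.mulLeft b)]
    rw [Finset.mul_sum]
    refine Finset.sum_congr rfl fun a _ => ?_
    rw [Equiv.coe_mulLeft, map_mul, mul_inv, Units.val_mul]
  have h2 : (1 - (((ε b)⁻¹ : ℂˣ) : ℂ)) * ∑ a : A, (((ε a)⁻¹ : ℂˣ) : ℂ) = 0 := by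
    rw [sub_mul, one_mul, ← h1, sub_self]
  refine (mul_eq_zero.1 h2).resolve_left fun h3 => hb ?_
  have h4 : (((ε b)⁻¹ : ℂˣ) : ℂ) = 1 := (sub_eq_zero.1 h3).symm
  have h5 : (ε b)⁻¹ = 1 := Units.ext h4
  exact inv_eq_one.1 h5

end Sign

section Weil

open Module Cfsg.Agent.H603.CC

variable {F : Type u} {V : Type v} [Field F] [AddCommGroup V] [Module F V] {q : ℕ} {σ : F →+* F}
  {B : V →ₛₗ[σ] V →ₗ[F] F} [Finite F] [Finite V]

/-- The restriction of a Weil character to the special unitary group is irreducible. -/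
theorem irr_ker (h : HS q σ B) (hodd : Odd (finrank F V)) (hn : 3 ≤ finrank F V)
    (hdt : ∀ g : UU B, dt g ^ (q + 1) = 1) {χ : UU B → ℂ} (hχ : IsIrrCharacter (UU B) χ) (hN : NoRef χ)
    (ht : ∀ t : UU B, IsTv t → χ t ≠ χ 1) :
    IsIrrCharacter (dt (B := B)).ker (fun n : (dt (B := B)).ker => χ n) := by
  classical
  have := Fintype.ofFinite (UU B)
  have := Fintype.ofFinite (dt (B := B)).ker
  obtain ⟨Λ, hΛ, -, h1, h2⟩ := CharactersDeep.AbelianQuotient.exists_linear_dual (dt (B := B)).ker (by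
    intro x y
    rw [MonoidHom.mem_ker, map_mul, map_mul, map_mul, map_inv, map_inv, mul_comm (dt x) (dt y),
      mul_inv_cancel_right, mul_inv_cancel])
  have hc : IsCharacter (dt (B := B)).ker (fun n : (dt (B := B)).ker => χ n) :=
    isCharacter_comp (dt (B := B)).ker.subtype (isIrr_isCharacter hχ)
  rw [isIrr_iff_classInner_self hc, CharactersDeep.AbelianQuotient.classInner_restrict_self _ hχ Λ h1 h2]
  have h3 : Λ.filter (fun l => (fun g => (l g : ℂ)) * χ = χ) = {1} := by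
    ext l
    simp only [Finset.mem_filter, Finset.mem_singleton]
    constructor
    · rintro ⟨hl, hlχ⟩
      by_contra hl1
      obtain ⟨g, hg⟩ : ∃ g, l g ≠ 1 := by
        by_contra hcon
        push Not at hcon
        exact hl1 (MonoidHom.ext hcon)
      -- factor through the determinant
      have hker : (dt (B := B)).rangeRestrict.ker ≤ l.ker := by
        intro x hx
        rw [MonoidHom.ker_rangeRestrict] at hx
        exact (hΛ l).1 hl x hx
      have hs := (dt (B := B)).rangeRestrict_surjective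
      set κ0 : (dt (B := B)).range →* ℂˣ := (dt (B := B)).rangeRestrict.liftOfRightInverse (Function.surjInv hs)
        (Function.rightInverse_surjInv hs) ⟨l, hker⟩ with hκ0
      have hκ0a : ∀ x : UU B, κ0 ((dt (B := B)).rangeRestrict x) = l x := fun x =>
        (dt (B := B)).rangeRestrict.liftOfRightInverse_comp_apply _ _ _ x
      have hfin : Finite Fˣ := inferInstance
      obtain ⟨κ, hκ⟩ := MonoidHom.domRestrict_surjective (M := ℂ) (dt (B := B)).range κ0
      have hκa : ∀ x : UU B, κ (dt x) = l x := by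
        intro x
        rw [← hκ0a, ← hκ]
        rfl
      obtain ⟨t, htv⟩ := (inp h hodd hn).exists_isTv
      refine (inp h hodd hn).not_noRef_mul hχ hN htv (ht t htv) (κ := κ) ⟨dt g, hdt g, ?_⟩ ?_
      · rw [hκa]
        exact hg
      · have h4 : (fun g : UU B => χ g * dl κ g) = χ := by
          funext x
          have h5 := congrFun hlχ x
          rw [Pi.mul_apply] at h5
          rw [dl, hκa, mul_comm]
          exact h5
        rw [h4]
        exact hN
    · rintro rfl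
      refine ⟨(hΛ 1).2 fun _ _ => rfl, ?_⟩
      ext x
      simp
  rw [h3]
  simp

/-- the difference of two Weil characters on the elements of odd order -/
theorem weil_diff (h : HS q σ B) (hn : 1 ≤ finrank F V) {χ ψ : UU B → ℂ} {ε : Zs B →* ℂˣ} (hε : ε ^ 2 = 1)
    (hε1 : ε ≠ 1)
    (hχ : ∀ g : UU B, χ g = ((q : ℂ) + 1)⁻¹ * ∑ᶠ z : Zs B, ((ε z)⁻¹ : ℂˣ) * (- wf q ((z : UU B) * g)))
    (hψ : ∀ g : UU B, ψ g = ((q : ℂ) + 1)⁻¹ * ∑ᶠ z : Zs B, (((1 : Zs B →* ℂˣ) z)⁻¹ : ℂˣ) * (- wf q ((z : UU B) * g)))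
    (g : UU B) (hg : Odd (orderOf g)) : χ g = ψ g + 1 := by
  classical
  have := Fintype.ofFinite (Zs B)
  have hq1 : (q : ℂ) + 1 ≠ 0 := by exact_mod_cast Nat.succ_ne_zero q
  have hcZ : Fintype.card (Zs B) = q + 1 := by rw [← Nat.card_eq_fintype_card, card_Zs h hn]
  -- scalars with `ε z ≠ 1`
  have hz : ∀ z : Zs B, ε z ≠ 1 → wf q ((z : UU B) * g) = 1 := by
    intro z hz
    have hb : fx ((z : UU B) * g) = ⊥ := by
      rw [Submodule.eq_bot_iff]
      intro v hv
      by_contra hv0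
      have hv' : ac B ((z : UU B) * g) v = v := hv
      have h1 := H697.EP.ac_pow_of_fix hv' (orderOf g)
      have hcom : Commute (z : UU B) g := zs_comm z.2 g
      rw [hcom.mul_pow, pow_orderOf_eq_one, mul_one] at h1
      obtain ⟨c, hc⟩ := (Zs B).pow_mem z.2 (orderOf g)
      rw [hc] at h1
      have hc1 : c = 1 := by
        have h2 : (c - 1) • v = 0 := by rw [sub_smul, one_smul, h1, sub_self]
        rcases smul_eq_zero.1 h2 with h3 | h3
        · exact sub_eq_zero.1 h3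
        · exact absurd h3 hv0
      have h2 : ((z : Zs B) : UU B) ^ orderOf g = 1 := by
        apply ac_ext
        intro x
        rw [hc, hc1, one_smul]
        rfl
      have h3 : z ^ orderOf g = 1 := Subtype.ext h2
      apply hz
      have h4 : ε z ^ orderOf g = 1 := by rw [← map_pow, h3, map_one]
      have h5 : ε z ^ 2 = 1 := by
        have := congrArg (fun f : Zs B →* ℂˣ => f z) hε
        simpa using this
      obtain ⟨k, hk⟩ := hg
      rw [hk, pow_succ, pow_mul, h5, one_pow, one_mul] at h4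
      exact h4
    rw [wf, hb, finrank_bot, pow_zero]
  rw [hχ, hψ, finsum_eq_sum_of_fintype, finsum_eq_sum_of_fintype]
  have h1 : ∑ z : Zs B, (((ε z)⁻¹ : ℂˣ) : ℂ) * (- wf q ((z : UU B) * g)) =
      ∑ z : Zs B, ((((1 : Zs B →* ℂˣ) z)⁻¹ : ℂˣ) : ℂ) * (- wf q ((z : UU B) * g)) + ((q : ℂ) + 1) := by
    have h2 : ∀ z : Zs B, (((ε z)⁻¹ : ℂˣ) : ℂ) * (- wf q ((z : UU B) * g)) =
        ((((1 : Zs B →* ℂˣ) z)⁻¹ : ℂˣ) : ℂ) * (- wf q ((z : UU B) * g)) + (1 - (((ε z)⁻¹ : ℂˣ) : ℂ)) := by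
      intro z
      rw [MonoidHom.one_apply, inv_one, Units.val_one, one_mul]
      by_cases hz1 : ε z = 1
      · rw [hz1, inv_one, Units.val_one, one_mul, sub_self, add_zero]
      · rw [hz z hz1]
        ring
    rw [Finset.sum_congr rfl fun z _ => h2 z, Finset.sum_add_distrib, Finset.sum_sub_distrib, sum_inv_eq_zero hε1,
      Finset.sum_const, Finset.card_univ, hcZ, nsmul_eq_mul]
    push_cast
    ring
  rw [h1, mul_add, inv_mul_cancel₀ hq1]

/-- the degree -/
theorem weil_one (h : HS q σ B) (hn : finrank F V = 3) {ψ : UU B → ℂ}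
    (hψ : ∀ g : UU B, ψ g = ((q : ℂ) + 1)⁻¹ * ∑ᶠ z : Zs B, (((1 : Zs B →* ℂˣ) z)⁻¹ : ℂˣ) * (- wf q ((z : UU B) * g))) :
    ψ 1 = (q : ℂ) ^ 2 - q := by
  classical
  have := Fintype.ofFinite (Zs B)
  have hq1 : (q : ℂ) + 1 ≠ 0 := by exact_mod_cast Nat.succ_ne_zero q
  have hcZ : Fintype.card (Zs B) = q + 1 := by rw [← Nat.card_eq_fintype_card, card_Zs h (by omega)]
  rw [hψ, finsum_eq_sum_of_fintype, ← Finset.add_sum_erase Finset.univ _ (Finset.mem_univ (1 : Zs B))]
  have h1 : ∀ z ∈ Finset.univ.erase (1 : Zs B),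
      ((((1 : Zs B →* ℂˣ) z)⁻¹ : ℂˣ) : ℂ) * (- wf q ((z : UU B) * 1)) = -1 := by
    intro z hz
    obtain ⟨c, hc⟩ := z.2
    rw [MonoidHom.one_apply, inv_one, Units.val_one, one_mul, mul_one, wf,
      Cfsg.Agent.H458.CC.Concrete.fx_scalar hc (fun h0 => Finset.ne_of_mem_erase hz (Subtype.ext h0)), finrank_bot, pow_zero]
  rw [Finset.sum_congr rfl h1, Finset.sum_const, Finset.card_erase_of_mem (Finset.mem_univ _), Finset.card_univ, hcZ,
    MonoidHom.one_apply, inv_one, Units.val_one, one_mul, mul_one]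
  show ((q : ℂ) + 1)⁻¹ * (- wf q (1 : UU B) + _) = _
  rw [wf_one, hn, Nat.add_sub_cancel, nsmul_eq_mul]
  field_simp
  ring

end Weil

section SU

open Module Cfsg.Agent.H603.CC Cfsg.Agent.H91.U Cfsg.Agent.LieClassical.HermBasic Matrix Cfsg.Agent.H697.EP
open Cfsg.Agent.ClassicalGeometry.UnitAutBasic (pr pr_surjective)

variable {F : Type u} [Field F] [Fintype F] {q : ℕ}

/-- the embedding of `SU` in the unitary group -/
noncomputable def iS (hF : Fintype.card F = q ^ 2) : SU 3 F q →* UU (sB hF 3) :=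
  Cfsg.Agent.H269.CC.homU (LinearEquiv.refl F (Fin 3 → F)) (fun _ _ => rfl)

theorem ac_iS (hF : Fintype.card F = q ^ 2) (A : SU 3 F q) (x : Fin 3 → F) :
    ac (sB hF 3) (iS hF A) x = ((A : Matrix.SpecialLinearGroup (Fin 3) F) : Matrix _ _ F) *ᵥ x := rfl

theorem iS_inj (hF : Fintype.card F = q ^ 2) : Function.Injective (iS (F := F) hF) := by
  intro A A' hAA
  apply Subtype.ext
  apply Subtype.ext
  apply Matrix.toLin'.injective
  refine LinearMap.ext fun v => ?_
  exact congrArg (fun g : UU (sB hF 3) => ac (sB hF 3) g v) hAA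

theorem iS_dt (hF : Fintype.card F = q ^ 2) (A : SU 3 F q) : dt (iS hF A) = 1 := dt_homU hF _ A

theorem iS_surj (hF : Fintype.card F = q ^ 2) {g : UU (sB hF 3)} (hg : dt g = 1) : ∃ A : SU 3 F q, iS hF A = g :=
  Cfsg.Agent.H269.CC.exists_homU (LinearEquiv.refl F (Fin 3 → F)) (fun _ _ => rfl) hg

/-- `SU` as the kernel of the determinant -/
noncomputable def iK (hF : Fintype.card F = q ^ 2) : SU 3 F q →* (dt (B := sB hF 3)).ker :=
  (iS hF).codRestrict _ fun A => MonoidHom.mem_ker.2 (iS_dt hF A)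

theorem iK_surj (hF : Fintype.card F = q ^ 2) : Function.Surjective (iK (F := F) hF) := by
  rintro ⟨g, hg⟩
  obtain ⟨A, hA⟩ := iS_surj hF (MonoidHom.mem_ker.1 hg)
  exact ⟨A, Subtype.ext hA⟩

theorem irr_SU (hF : Fintype.card F = q ^ 2) {χ : UU (sB hF 3) → ℂ}
    (hk : IsIrrCharacter (dt (B := sB hF 3)).ker (fun n : (dt (B := sB hF 3)).ker => χ n)) :
    IsIrrCharacter (SU 3 F q) (fun A => χ (iS hF A)) :=
  isIrr_comp (iK hF) (iK_surj hF) hk

/-- the centre of `SU` -/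
theorem center_cube (hF : Fintype.card F = q ^ 2) {z : SU 3 F q} (hz : z ∈ Subgroup.center (SU 3 F q)) :
    iS hF z ∈ Zs (sB hF 3) ∧ z ^ 3 = 1 := by
  obtain ⟨c, hcn, hcq, rfl⟩ := (LieClassical.SUBasic.mem_center_SU_iff hF le_rfl z).1 hz
  have h1 : ∀ v : Fin 3 → F, ac (sB hF 3) (iS hF (LieClassical.SUBasic.suScalar q c hcn hcq)) v = c • v := by
    intro v
    rw [ac_iS, LieClassical.SUBasic.coe_suScalar]
    funext i
    rw [Matrix.mulVec_diagonal, Pi.smul_apply, smul_eq_mul]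
  refine ⟨⟨c, h1⟩, iS_inj hF ?_⟩
  rw [map_pow, map_one]
  apply ac_ext
  intro x
  rw [pow_succ, pow_two, ac_mul, ac_mul, h1, h1, h1, smul_smul, smul_smul, ← pow_two, ← pow_succ, hcn, one_smul]
  rfl

/-- descent to `PSU` -/
theorem exists_descent (hF : Fintype.card F = q ^ 2) {ε : Zs (sB hF 3) →* ℂˣ} (hε : ε ^ 2 = 1)
    {χ : UU (sB hF 3) → ℂ} (hk : IsIrrCharacter (dt (B := sB hF 3)).ker (fun n : (dt (B := sB hF 3)).ker => χ n))
    (hz : ∀ (z : Zs (sB hF 3)) (g : UU (sB hF 3)), χ (z * g) = (ε z : ℂˣ) * χ g) :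
    ∃ ψ : IrrCharacter (PSU 3 F q), ∀ A : SU 3 F q, (ψ : PSU 3 F q → ℂ) (pr 3 F q A) = χ (iS hF A) := by
  classical
  have hi := irr_SU hF hk
  have := Fintype.ofFinite (Subgroup.center (SU 3 F q))
  have hker : ∀ z : Subgroup.center (SU 3 F q), χ (iS hF (z : SU 3 F q)) = χ 1 := by
    intro z
    obtain ⟨h1, h2⟩ := center_cube hF z.2
    have h3 := hz ⟨_, h1⟩ 1
    rw [mul_one] at h3
    have h4 : ε ⟨_, h1⟩ ^ 2 = 1 := by
      have := congrArg (fun f : Zs (sB hF 3) →* ℂˣ => f ⟨_, h1⟩) hε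
      simpa using this
    have h5 : ε ⟨_, h1⟩ ^ 3 = 1 := by
      rw [← map_pow]
      have h6 : (⟨_, h1⟩ : Zs (sB hF 3)) ^ 3 = 1 := Subtype.ext (by
        show (iS hF (z : SU 3 F q)) ^ 3 = 1
        rw [← map_pow, h2, map_one])
      rw [h6, map_one]
    rw [pow_succ, h4, one_mul] at h5
    rw [h3, h5, Units.val_one, one_mul]
  have h1ne : χ 1 ≠ 0 := by
    have h2 := isIrr_apply_one_ne_zero hi
    rwa [map_one] at h2
  obtain ⟨ψ, hψ⟩ := Blocks.Deflate.exists_deflation (Subgroup.center (SU 3 F q)) _ hi (by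
    rw [Finset.sum_congr rfl fun z _ => hker z, Finset.sum_const, nsmul_eq_mul]
    refine mul_ne_zero ?_ h1ne
    exact Nat.cast_ne_zero.2 (Finset.card_ne_zero.2 ⟨1, Finset.mem_univ _⟩))
  exact ⟨ψ, fun A => (congrFun hψ A).symm⟩

/-- **The character of degree `q (q - 1)`** of `PSU_3(q)`, `q` odd, with its values, in the principal 2-block. -/
theorem exists_psi (hF : Fintype.card F = q ^ 2) (hodd : Odd q) :
    ∃ ψ : IrrCharacter (PSU 3 F q),
      (∀ A : SU 3 F q, (ψ : PSU 3 F q → ℂ) (pr 3 F q A) =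
        ((q : ℂ) + 1)⁻¹ * ∑ᶠ z : Zs (sB hF 3), (- wf q ((z : UU (sB hF 3)) * iS hF A))) ∧
      (ψ : PSU 3 F q → ℂ) 1 = (q : ℂ) ^ 2 - q ∧
      ∀ M : Ideal AlgInt, IsPModular 2 M → ψ ∈ principalBlock M (PSU 3 F q) := by
  classical
  have h := hs_std hF 3
  have hfr : finrank F (Fin 3 → F) = 3 := finrank_std 3
  have hdt := dt_pow (n := 3) hF
  have hcz : Nat.card (Zs (sB hF 3)) = q + 1 := card_Zs h (by omega)
  obtain ⟨ε, hε, hε1⟩ := exists_sign (Zs (sB hF 3)) (fun x y => Subtype.ext (zs_comm x.2 y)) (by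
    rw [hcz]
    obtain ⟨k, hk⟩ := hodd
    exact ⟨k + 1, by omega⟩)
  obtain ⟨χ1, a1, a2, a3, a4, -⟩ := exists_unique_weil h (by rw [hfr]; decide) (by omega) (1 : Zs (sB hF 3) →* ℂˣ)
  obtain ⟨χ2, b1, b2, b3, b4, -⟩ := exists_unique_weil h (by rw [hfr]; decide) (by omega) ε
  have hk1 := irr_ker h (by rw [hfr]; decide) (by omega) hdt χ1.2 a1 a2
  have hk2 := irr_ker h (by rw [hfr]; decide) (by omega) hdt χ2.2 b1 b2
  obtain ⟨ψ1, hψ1⟩ := exists_descent hF (ε := 1) (one_pow (M := Zs (sB hF 3) →* ℂˣ) 2) hk1 a3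
  obtain ⟨ψ2, hψ2⟩ := exists_descent hF hε hk2 b3
  refine ⟨ψ1, fun A => ?_, ?_, fun M hM => ?_⟩
  · rw [hψ1, a4]
    congr 1
    refine finsum_congr fun z => ?_
    rw [MonoidHom.one_apply, inv_one, Units.val_one, one_mul]
  · have h1 := hψ1 1
    rw [map_one, map_one, weil_one h hfr a4] at h1
    exact h1
  · have : Fact (Nat.Prime 2) := ⟨Nat.prime_two⟩
    refine mem_of_add_one hM ψ1 ψ2 fun x hx => ?_
    obtain ⟨A, rfl⟩ := pr_surjective x
    rw [hψ1, hψ2]
    refine weil_diff h (by omega) hε hε1 b4 a4 _ ?_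
    rw [orderOf_injective _ (iS_inj hF)]
    have h1 : Odd (orderOf (pr 3 F q A)) := by
      rw [← Nat.not_even_iff_odd, even_iff_two_dvd]
      exact hx
    have h2 : A ^ orderOf (pr 3 F q A) ∈ Subgroup.center (SU 3 F q) := by
      have h3 : pr 3 F q (A ^ orderOf (pr 3 F q A)) = 1 := by rw [map_pow, pow_orderOf_eq_one]
      exact (QuotientGroup.eq_one_iff _).1 h3
    have h3 := (center_cube hF h2).2
    rw [← pow_mul] at h3
    exact Odd.of_dvd_nat (h1.mul (by decide)) (orderOf_dvd_of_pow_eq_one h3)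

end SU

section Row

open Cfsg.Agent.H316.HT

/-- **`RowIn 2 (PSU 3 F q)`**, `q = 3 mod 4` -/
theorem rowIn_psu3 (F : Type) [Field F] [Fintype F] (q : ℕ) (hF : Fintype.card F = q ^ 2) (hq : q % 4 = 3) :
    RowIn 2 (PSU 3 F q) := by
  intro M hM P a ha _
  obtain ⟨ψ, -, h1, hM'⟩ := exists_psi hF (by rw [Nat.odd_iff]; omega)
  refine ⟨ψ, hM' M hM, ?_⟩
  have hd : charDegree (ψ : PSU 3 F q → ℂ) = q * (q - 1) := by
    unfold charDegree
    rw [h1]
    obtain ⟨k, rfl⟩ : ∃ k, q = k + 1 := ⟨q - 1, by omega⟩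
    have h2 : (((k + 1 : ℕ) : ℂ) ^ 2 - ((k + 1 : ℕ) : ℂ)) = (((k + 1) * (k + 1 - 1) : ℕ) : ℂ) := by
      rw [Nat.add_sub_cancel]
      push_cast
      ring
    rw [h2, Complex.natCast_re, Nat.floor_natCast]
  have hv : (q * (q - 1)).factorization 2 = 1 := by
    have h1 : ¬ 2 ∣ q := by omega
    obtain ⟨k, hk, hk2⟩ : ∃ k, q - 1 = 2 * k ∧ ¬ 2 ∣ k := ⟨(q - 1) / 2, by omega, by omega⟩
    have hk0 : k ≠ 0 := by rintro rfl; exact hk2 (dvd_zero 2)
    have hq0 : q ≠ 0 := by omega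
    rw [hk, Nat.factorization_mul hq0 (by omega), Nat.factorization_mul (by norm_num) hk0]
    simp only [Finsupp.coe_add, Pi.add_apply]
    rw [Nat.factorization_eq_zero_of_not_dvd h1, Nat.factorization_eq_zero_of_not_dvd hk2,
      Nat.Prime.factorization_self Nat.prime_two, zero_add, add_zero]
  rw [vd, hd, hv]
  exact ⟨one_pos, ha⟩

end Row

end Cfsg.Agent.H872.HT
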